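import Cfsg.Agent.JankoOne.Iso.C4.Data
import Cfsg.Agent.JankoOne.Iso.Words
import Cfsg.Agent.CosetCert.TabSplit

/-!
The certificate is valid.
-/

set_option autoImplicit false

namespace Cfsg.Lib.JankoOne.Iso.C4

open Cfsg.Lib.CosetCert

theorem steps0_ok : cert.stepsOK 0 steps0 = true ∧ ruleBound spec.length steps0 = true := by decide +kernel

theorem steps1_ok : cert.stepsOK 256 steps1 = true ∧ ruleBound spec.length steps1 = true := by decide +kernel

theorem steps2_ok : cert.stepsOK 512 steps2 = true ∧ ruleBound spec.length steps2 = true := by decide +kernel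

def cat1_0 : List (ℕ × ℕ) := steps0 ++ steps1

theorem cat1_0_ok : cert.stepsOK 0 cat1_0 = true ∧ ruleBound spec.length cat1_0 = true :=
  stepsOK_cat steps0_ok steps1_ok (by decide +kernel)

def cat2_0 : List (ℕ × ℕ) := cat1_0 ++ steps2

theorem cat2_0_ok : cert.stepsOK 0 cat2_0 = true ∧ ruleBound spec.length cat2_0 = true :=
  stepsOK_cat cat1_0_ok steps2_ok (by decide +kernel)

theorem spec_ok : cert.rotsOK (relsOf high) spec = true := by decide +kernel

theorem len_eq : cat2_0.length = 657 := by decide +kernel

theorem tab_ok : cert.tabOK cat2_0.length = true := by decide +kernel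

theorem valid : cert.Valid (relsOf high) :=
  ⟨by decide, spec, cat2_0, spec_ok, cat2_0_ok.1, cat2_0_ok.2, tab_ok⟩

theorem fins_length : cert.fin.length = 1 := by rw [Cert.fin, List.length_map, List.length_range]; rfl

end Cfsg.Lib.JankoOne.Iso.C4
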